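import Mathlib

/-!
The trace of differential forms along a purely inseparable extension `R[x]/(x^p - a)`.
-/

set_option autoImplicit false
set_option linter.style.haveILetI false

universe u

open Polynomial
open scoped TensorProduct

namespace Groth.Agent.PthRootTrace

section General

variable {S : Type u} [CommRing S]

/-- An alternating map descends along a surjection whose kernel it kills in every slot. -/
noncomputable def descend {M M' N : Type u} [AddCommGroup M] [Module S M] [AddCommGroup M'] [Module S M']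
    [AddCommGroup N] [Module S N] {n : ℕ} (q : M →ₗ[S] M') (hq : Function.Surjective q)
    (F : M [⋀^Fin n]→ₗ[S] N) (hF : ∀ v i, q (v i) = 0 → F v = 0) : M' [⋀^Fin n]→ₗ[S] N :=
  have key : ∀ (v : Fin n → M) (i : Fin n) (y : M), q y = q (v i) → F (Function.update v i y) = F v := by
    intro v i y h
    have h' := hF (Function.update v i (y - v i)) i (by simp [h])
    rw [AlternatingMap.map_update_sub, Function.update_eq_self, sub_eq_zero] at h'
    exact h'
  have all : ∀ v w : Fin n → M, (∀ i, q (v i) = q (w i)) → F v = F w := by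
    classical
    intro v w h
    have : ∀ s : Finset (Fin n), F (s.piecewise w v) = F v := by
      intro s
      induction s using Finset.induction_on with
      | empty => rw [Finset.piecewise_empty]
      | insert i s hi ih =>
        rw [Finset.piecewise_insert, key _ i _ (by rw [Finset.piecewise_eq_of_notMem _ _ _ hi, h]), ih]
    exact ((this Finset.univ).symm.trans (by rw [Finset.piecewise_univ]))
  { toFun := fun v => F fun i => Function.surjInv hq (v i)
    map_update_add' := fun v i x y => by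
      have e : ∀ z, F (fun j => Function.surjInv hq (Function.update v i z j)) =
          F (Function.update (fun j => Function.surjInv hq (v j)) i (Function.surjInv hq z)) :=
        fun z => congrArg F (funext fun j => by rcases eq_or_ne j i with rfl | hj <;> simp [*])
      rw [e, e, e, ← AlternatingMap.map_update_add]
      exact all _ _ fun j => by
        rcases eq_or_ne j i with rfl | hj
        · simp [Function.surjInv_eq hq]
        · simp [hj]
    map_update_smul' := fun v i c x => by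
      have e : ∀ z, F (fun j => Function.surjInv hq (Function.update v i z j)) =
          F (Function.update (fun j => Function.surjInv hq (v j)) i (Function.surjInv hq z)) :=
        fun z => congrArg F (funext fun j => by rcases eq_or_ne j i with rfl | hj <;> simp [*])
      rw [e, e, ← AlternatingMap.map_update_smul]
      exact all _ _ fun j => by
        rcases eq_or_ne j i with rfl | hj
        · simp [Function.surjInv_eq hq]
        · simp [hj]
    map_eq_zero_of_eq' := fun v i j h hij => F.map_eq_zero_of_eq _ (by simp only [h]) hij }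

theorem descend_apply {M M' N : Type u} [AddCommGroup M] [Module S M] [AddCommGroup M'] [Module S M']
    [AddCommGroup N] [Module S N] {n : ℕ} (q : M →ₗ[S] M') (hq : Function.Surjective q)
    (F : M [⋀^Fin n]→ₗ[S] N) (hF : ∀ v i, q (v i) = 0 → F v = 0) (v : Fin n → M) :
    descend q hq F hF (q ∘ v) = F v := by
  classical
  have key : ∀ (v : Fin n → M) (i : Fin n) (y : M), q y = q (v i) → F (Function.update v i y) = F v := by
    intro v i y h
    have h' := hF (Function.update v i (y - v i)) i (by simp [h])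
    rw [AlternatingMap.map_update_sub, Function.update_eq_self, sub_eq_zero] at h'
    exact h'
  let w := fun i => Function.surjInv hq (q (v i))
  show F w = F v
  have : ∀ s : Finset (Fin n), F (s.piecewise w v) = F v := by
    intro s
    induction s using Finset.induction_on with
    | empty => rw [Finset.piecewise_empty]
    | insert i s hi ih =>
      rw [Finset.piecewise_insert, key _ i _ (by
        rw [Finset.piecewise_eq_of_notMem _ _ _ hi]; exact Function.surjInv_eq hq _), ih]
  exact ((show F w = F (Finset.univ.piecewise w v) by rw [Finset.piecewise_univ]).trans (this _))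

open ExteriorAlgebra in
theorem contract_ιMulti_mul {V : Type u} [AddCommGroup V] [Module S V] (d : Module.Dual S V) :
    ∀ {n : ℕ} (v : Fin n → V) (y : ExteriorAlgebra S V), (∀ i, d (v i) = 0) →
      CliffordAlgebra.contractLeft d (ιMulti S n v * y) =
        (-1 : S) ^ n • (ιMulti S n v * CliffordAlgebra.contractLeft d y) := by
  intro n
  induction n with
  | zero => intro v y _; simp [ιMulti_apply]
  | succ n ih =>
    intro v y h
    rw [ιMulti_succ_apply, mul_assoc]
    refine (CliffordAlgebra.contractLeft_ι_mul (Q := (0 : QuadraticForm S V)) (d := d) _ _).trans ?_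
    rw [h 0, zero_smul, zero_sub, ih (Matrix.vecTail v) y fun i => h i.succ, mul_smul_comm, pow_succ, mul_smul, neg_one_smul, smul_neg,
      mul_assoc]

end General

variable (p : ℕ) [Fact p.Prime] (Λ R : Type u) [CommRing Λ] [CommRing R] [Algebra Λ R] [CharP R p] (a : R)

local notation "S" => AdjoinRoot (X ^ p - C a : R[X])
local notation "x₀" => AdjoinRoot.root (X ^ p - C a : R[X])

/-- The free cover of the differentials of the extension. -/
noncomputable def cover : (S ⊗[R] Ω[R⁄Λ]) × S →ₗ[S] Ω[S⁄Λ] :=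
  LinearMap.coprod (KaehlerDifferential.mapBaseChange Λ R S)
    (LinearMap.toSpanSingleton S _ (KaehlerDifferential.D Λ S x₀))

/-- The relation `da = 0`. -/
noncomputable def rel : (S ⊗[R] Ω[R⁄Λ]) × S := ((1 : S) ⊗ₜ[R] KaehlerDifferential.D Λ R a, 0)

omit [Fact p.Prime] [CharP R p] in
theorem cover_surjective : Function.Surjective (cover p Λ R a) := by
  rw [← LinearMap.range_eq_top, eq_top_iff, ← KaehlerDifferential.span_range_derivation, Submodule.span_le]
  rintro _ ⟨s, rfl⟩
  obtain ⟨f, rfl⟩ := AdjoinRoot.mk_surjective s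
  have hof : ∀ r : R, AdjoinRoot.of (X ^ p - C a : R[X]) r = algebraMap R S r := fun r => rfl
  induction f using Polynomial.induction_on' with
  | add f g hf hg => rw [map_add, map_add]; exact Submodule.add_mem _ hf hg
  | monomial i r =>
    rw [← C_mul_X_pow_eq_monomial, map_mul, map_pow, AdjoinRoot.mk_X, AdjoinRoot.mk_C, Derivation.leibniz,
      Derivation.leibniz_pow, hof]
    refine Submodule.add_mem _ (Submodule.smul_mem _ _ (Submodule.smul_of_tower_mem _ _
      (Submodule.smul_mem _ _ ?_))) (Submodule.smul_mem _ _ ?_)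
    · exact ⟨(0, 1), by simp [cover]⟩
    · exact ⟨((1 : S) ⊗ₜ[R] KaehlerDifferential.D Λ R r, 0), by simp [cover]⟩

/-- Derivations of the base killing `a` extend to the extension, with any value on the root. -/
theorem exists_derivation (Q : Type u) [AddCommGroup Q] [Module S Q] [Module R Q] [IsScalarTower R S Q] [Module Λ Q]
    [IsScalarTower Λ S Q] (D₀ : Derivation Λ R Q) (ha : D₀ a = 0) (e : Q) :
    ∃ δ : Derivation Λ S Q, (∀ r : R, δ (algebraMap R S r) = D₀ r) ∧ δ x₀ = e := by
  letI : Module Sᵐᵒᵖ Q := Module.compHom _ ((RingHom.id S).fromOpposite mul_comm)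
  haveI : IsCentralScalar S Q := ⟨fun c q => by
    show (MulOpposite.unop (MulOpposite.op c)) • q = c • q
    rw [MulOpposite.unop_op]⟩
  let i : R →+* TrivSqZeroExt S Q :=
    { toFun := fun r => TrivSqZeroExt.inl (algebraMap R S r) + TrivSqZeroExt.inr (D₀ r)
      map_one' := by ext <;> simp
      map_mul' := fun r r' => by
        ext
        · simp
        · simp only [TrivSqZeroExt.snd_mul, TrivSqZeroExt.snd_add, TrivSqZeroExt.snd_inl, TrivSqZeroExt.snd_inr,
            TrivSqZeroExt.fst_add, TrivSqZeroExt.fst_inl, TrivSqZeroExt.fst_inr, zero_add, add_zero, op_smul_eq_smul,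
            Derivation.leibniz, algebraMap_smul]
      map_zero' := by ext <;> simp
      map_add' := fun r r' => by ext <;> simp }
  let x' : TrivSqZeroExt S Q := TrivSqZeroExt.inl x₀ + TrivSqZeroExt.inr e
  have hroot : (X ^ p - C a : R[X]).eval₂ i x' = 0 := by
    have hp : x' ^ p = TrivSqZeroExt.inl (x₀ ^ p) := by
      ext
      · simp [x']
      · have h0 : ((p : ℕ) : S) = 0 := by
          rw [← map_natCast (algebraMap R S), CharP.cast_eq_zero, map_zero]
        rw [TrivSqZeroExt.snd_pow]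
        simp [x', ← Nat.cast_smul_eq_nsmul S, h0]
    have hx : x₀ ^ p = algebraMap R S a := by
      rw [← sub_eq_zero, ← AdjoinRoot.mk_X]
      show AdjoinRoot.mk _ X ^ p - AdjoinRoot.of _ a = 0
      rw [← AdjoinRoot.mk_C, ← map_pow, ← map_sub, AdjoinRoot.mk_self]
    rw [eval₂_sub, eval₂_pow, eval₂_X, eval₂_C, hp, hx]
    show _ - (TrivSqZeroExt.inl (algebraMap R S a) + TrivSqZeroExt.inr (D₀ a)) = 0
    rw [ha, TrivSqZeroExt.inr_zero, add_zero, sub_self]
  let L : S →+* TrivSqZeroExt S Q := AdjoinRoot.lift i x' hroot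
  have hLr : ∀ r : R, L (algebraMap R S r) = i r := fun r => AdjoinRoot.lift_of _
  have hfst : ∀ s, (L s).fst = s := by
    intro s
    have : (TrivSqZeroExt.fstHom S S Q).toRingHom.comp L = RingHom.id S := by
      refine AdjoinRoot.ringHom_ext ?_ ?_
      · ext r
        simp [L, i, AdjoinRoot.lift_of]
      · simp [L, x', AdjoinRoot.lift_root]
    exact RingHom.congr_fun this s
  have hsmul : ∀ (c : Λ) (s : S), (L (c • s)).snd = c • (L s).snd := fun c s => by
    rw [Algebra.smul_def, map_mul, TrivSqZeroExt.snd_mul, hfst, hfst, IsScalarTower.algebraMap_apply Λ R S c, hLr]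
    simp only [i, RingHom.coe_mk, MonoidHom.coe_mk, OneHom.coe_mk, Derivation.map_algebraMap, TrivSqZeroExt.inr_zero,
      add_zero, TrivSqZeroExt.snd_inl, smul_zero, zero_add, op_smul_eq_smul]
    rw [← IsScalarTower.algebraMap_apply Λ R S c, algebraMap_smul]
  refine ⟨
    { toFun := fun s => (L s).snd
      map_add' := fun s t => by simp
      map_smul' := hsmul
      map_one_eq_zero' := by simp
      leibniz' := fun s t => by
        show (L (s * t)).snd = s • (L t).snd + t • (L s).snd
        rw [map_mul, TrivSqZeroExt.snd_mul, hfst, hfst, op_smul_eq_smul] }, fun r => ?_, ?_⟩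
  · show (L _).snd = _
    rw [hLr]
    simp [i]
  · show (L x₀).snd = _
    simp [L, x', AdjoinRoot.lift_root]

set_option maxHeartbeats 1000000 in
theorem mem_span_rel_of_cover_eq_zero (v : (S ⊗[R] Ω[R⁄Λ]) × S) (hv : cover p Λ R a v = 0) :
    v ∈ Submodule.span S {rel p Λ R a} := by
  let K : Submodule S ((S ⊗[R] Ω[R⁄Λ]) × S) := Submodule.span S {rel p Λ R a}
  let lift₀ : Ω[R⁄Λ] →ₗ[R] ((S ⊗[R] Ω[R⁄Λ]) × S) ⧸ K :=
    K.mkQ.restrictScalars R ∘ₗ LinearMap.inl R _ _ ∘ₗ TensorProduct.mk R S Ω[R⁄Λ] 1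
  obtain ⟨δ, hδr, hδx⟩ := exists_derivation p Λ R a (((S ⊗[R] Ω[R⁄Λ]) × S) ⧸ K)
    (lift₀.compDer (KaehlerDifferential.D Λ R))
    ((Submodule.Quotient.mk_eq_zero _).2 (Submodule.mem_span_singleton_self _)) (K.mkQ (0, 1))
  let q : Ω[S⁄Λ] →ₗ[S] ((S ⊗[R] Ω[R⁄Λ]) × S) ⧸ K := δ.liftKaehlerDifferential
  have hq : q ∘ₗ cover p Λ R a = K.mkQ := by
    refine LinearMap.prod_ext ?_ ?_
    · refine LinearMap.restrictScalars_injective R ?_
      refine TensorProduct.ext' fun s ω => ?_
      have hone : ∀ ω : Ω[R⁄Λ], q (KaehlerDifferential.map Λ Λ R S ω) = K.mkQ ((1 : S) ⊗ₜ[R] ω, 0) := by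
        intro ω
        have hω : ω ∈ Submodule.span R (Set.range (KaehlerDifferential.D Λ R)) := by
          rw [KaehlerDifferential.span_range_derivation]; trivial
        induction hω using Submodule.span_induction with
        | mem _ hw =>
          obtain ⟨r, rfl⟩ := hw
          rw [KaehlerDifferential.map_D, Derivation.liftKaehlerDifferential_comp_D, hδr]
          rfl
        | zero => simp; rfl
        | add x y _ _ hx hy => rw [map_add, map_add, hx, hy, ← map_add, Prod.mk_add_mk, add_zero, TensorProduct.tmul_add]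
        | smul c x _ hx =>
          rw [map_smul, ← algebraMap_smul S c, map_smul, hx, ← map_smul, Prod.smul_mk, algebraMap_smul, smul_zero,
            TensorProduct.tmul_smul]
      simp only [cover, LinearMap.restrictScalars_apply, LinearMap.coe_comp, Function.comp_apply, LinearMap.coe_inl,
        LinearMap.coprod_apply, map_zero, add_zero, KaehlerDifferential.mapBaseChange_tmul, map_smul, hone]
      rw [← map_smul, Prod.smul_mk, smul_zero, TensorProduct.smul_tmul', smul_eq_mul, mul_one]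
    · refine LinearMap.ext_ring ?_
      simp only [cover, LinearMap.coe_comp, Function.comp_apply, LinearMap.coe_inr, LinearMap.coprod_apply, map_zero,
        zero_add, LinearMap.toSpanSingleton_apply, one_smul]
      rw [Derivation.liftKaehlerDifferential_comp_D, hδx]
  rw [← Submodule.Quotient.mk_eq_zero]
  have := LinearMap.congr_fun hq v
  rw [LinearMap.comp_apply, hv, map_zero] at this
  exact this.symm

/-- The base change of `ι`. -/
noncomputable def ιS : S ⊗[R] Ω[R⁄Λ] →ₗ[S] S ⊗[R] ExteriorAlgebra R Ω[R⁄Λ] :=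
  (ExteriorAlgebra.ι R).baseChange S

omit [Fact p.Prime] [CharP R p] in
theorem ιS_sq (v : S ⊗[R] Ω[R⁄Λ]) : ιS p Λ R a v * ιS p Λ R a v = 0 := by
  have h1 : ∀ (s : S) (m : Ω[R⁄Λ]) (w : S ⊗[R] Ω[R⁄Λ]),
      ιS p Λ R a (s ⊗ₜ m) * ιS p Λ R a w + ιS p Λ R a w * ιS p Λ R a (s ⊗ₜ m) = 0 := by
    intro s m w
    induction w using TensorProduct.induction_on with
    | zero => simp
    | tmul t m' =>
      simp only [ιS, LinearMap.baseChange_tmul, Algebra.TensorProduct.tmul_mul_tmul]
      rw [mul_comm t s, ← TensorProduct.tmul_add, ExteriorAlgebra.ι_add_mul_swap, TensorProduct.tmul_zero]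
    | add x y hx hy => rw [map_add, mul_add, add_mul, add_add_add_comm, hx, hy, add_zero]
  induction v using TensorProduct.induction_on with
  | zero => simp
  | tmul s m => simp [ιS, Algebra.TensorProduct.tmul_mul_tmul]
  | add x y hx hy =>
    have h2 : ιS p Λ R a x * ιS p Λ R a y + ιS p Λ R a y * ιS p Λ R a x = 0 := by
      clear hx hy
      induction x using TensorProduct.induction_on with
      | zero => simp
      | tmul s m => exact h1 s m y
      | add x x' hx hx' => rw [map_add, add_mul, mul_add, add_add_add_comm, hx, hx', add_zero]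
    rw [map_add, mul_add, add_mul, add_mul, hx, hy, zero_add, add_zero, add_comm]
    exact h2

/-- Contract `dx` away and read off forms on the base. -/
noncomputable def ξ : ExteriorAlgebra S ((S ⊗[R] Ω[R⁄Λ]) × S) →ₗ[S] S ⊗[R] ExteriorAlgebra R Ω[R⁄Λ] :=
  (ExteriorAlgebra.lift S ⟨ιS p Λ R a ∘ₗ LinearMap.fst S _ _, fun v => ιS_sq p Λ R a v.1⟩).toLinearMap ∘ₗ
    CliffordAlgebra.contractLeft (Q := (0 : QuadraticForm S ((S ⊗[R] Ω[R⁄Λ]) × S))) (LinearMap.snd S _ _)

/-- The form before descending. -/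
noncomputable def pre (n : ℕ) : ((S ⊗[R] Ω[R⁄Λ]) × S) [⋀^Fin n]→ₗ[S] S ⊗[R] ExteriorAlgebra R Ω[R⁄Λ] :=
  (ξ p Λ R a ∘ₗ LinearMap.mulRight S (ExteriorAlgebra.ι S (rel p Λ R a))).compAlternatingMap
    (ExteriorAlgebra.ιMulti S n)

theorem pre_kill {n : ℕ} (v : Fin n → (S ⊗[R] Ω[R⁄Λ]) × S) (i : Fin n) (h : cover p Λ R a (v i) = 0) :
    pre p Λ R a n v = 0 := by
  obtain ⟨c, hc⟩ := Submodule.mem_span_singleton.1 (mem_span_rel_of_cover_eq_zero p Λ R a (v i) h)
  have h0 : ExteriorAlgebra.ιMulti S n v * ExteriorAlgebra.ι S (rel p Λ R a) = 0 := by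
    have hsnoc : ∀ w : Fin n → (S ⊗[R] Ω[R⁄Λ]) × S, ExteriorAlgebra.ιMulti S n w * ExteriorAlgebra.ι S (rel p Λ R a) =
        ExteriorAlgebra.ιMulti S (n + 1) (Fin.snoc w (rel p Λ R a)) := fun w => by
      rw [ExteriorAlgebra.ιMulti_apply, ExteriorAlgebra.ιMulti_apply, List.ofFn_succ', List.concat_eq_append,
        List.prod_append]
      simp
    rw [hsnoc, show Fin.snoc v (rel p Λ R a) = Function.update (Fin.snoc v (rel p Λ R a) : Fin (n + 1) → _) i.castSucc (c • rel p Λ R a) by
      rw [hc]; funext j; rcases eq_or_ne j i.castSucc with rfl | hj <;> simp [*],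
      AlternatingMap.map_update_smul]
    rw [(ExteriorAlgebra.ιMulti S (n + 1)).map_eq_zero_of_eq _ (i := i.castSucc) (j := Fin.last n)
      (by simp [Function.update_of_ne (Fin.castSucc_lt_last i).ne']) (Fin.castSucc_lt_last i).ne, smul_zero]
  simp [pre, h0]

theorem exists_coord : ∃ c : S →ₗ[R] R, c (x₀ ^ (p - 1)) = 1 ∧ ∀ i, i + 2 ≤ p → c (x₀ ^ i) = 0 := by
  have hp := (Fact.out : p.Prime).pos
  have hdeg : (X ^ p - C a : R[X]).natDegree = p := by
    haveI : Nontrivial R := CharP.nontrivial_of_char_ne_one (v := p) (Fact.out : p.Prime).ne_one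
    exact natDegree_X_pow_sub_C
  let pb := AdjoinRoot.powerBasis' (monic_X_pow_sub_C a hp.ne')
  have hd : pb.dim = p := by rw [AdjoinRoot.powerBasis'_dim, hdeg]
  refine ⟨pb.basis.coord ⟨p - 1, by omega⟩, ?_, fun i hi => ?_⟩
  · rw [show x₀ ^ (p - 1) = pb.basis ⟨p - 1, by omega⟩ from (pb.basis_eq_pow ⟨p - 1, by omega⟩).symm,
      Module.Basis.coord_apply, Module.Basis.repr_self, Finsupp.single_eq_same]
  · rw [show x₀ ^ i = pb.basis ⟨i, by omega⟩ from (pb.basis_eq_pow ⟨i, by omega⟩).symm,
      Module.Basis.coord_apply, Module.Basis.repr_self, Finsupp.single_apply, if_neg]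
    intro h
    have := congrArg Fin.val h
    simp only at this
    omega

theorem pre_forms (t : ℕ) (η : Fin t → Ω[R⁄Λ]) (c : S) :
    pre p Λ R a (t + 1) (Fin.snoc (fun j => ((1 : S) ⊗ₜ[R] η j, (0 : S))) (0, c)) =
      ((-1 : S) ^ t * c) ⊗ₜ[R] ExteriorAlgebra.ιMulti R (t + 1) (Fin.snoc η (KaehlerDifferential.D Λ R a)) := by
  let V := (S ⊗[R] Ω[R⁄Λ]) × S
  let v : Fin t → V := fun j => ((1 : S) ⊗ₜ[R] η j, 0)
  let k : V := rel p Λ R a
  have hsn : ExteriorAlgebra.ιMulti S (t + 1) (Fin.snoc v ((0 : S ⊗[R] Ω[R⁄Λ]), c) : Fin (t + 1) → V) *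
      ExteriorAlgebra.ι S k = ExteriorAlgebra.ιMulti S t v *
        (ExteriorAlgebra.ι S ((0 : S ⊗[R] Ω[R⁄Λ]), c) * ExteriorAlgebra.ι S k) := by
    rw [ExteriorAlgebra.ιMulti_apply, ExteriorAlgebra.ιMulti_apply, List.ofFn_succ', List.concat_eq_append,
      List.prod_append, mul_assoc]
    simp
  show ξ p Λ R a (ExteriorAlgebra.ιMulti S (t + 1) (Fin.snoc v _) * ExteriorAlgebra.ι S k) = _
  rw [hsn]
  have hk : CliffordAlgebra.contractLeft (Q := (0 : QuadraticForm S V)) (LinearMap.snd S _ _)
      (ExteriorAlgebra.ι S ((0 : S ⊗[R] Ω[R⁄Λ]), c) * ExteriorAlgebra.ι S k) = c • ExteriorAlgebra.ι S k := by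
    refine (CliffordAlgebra.contractLeft_ι_mul (Q := (0 : QuadraticForm S V)) (d := LinearMap.snd S _ _) _ _).trans ?_
    have : CliffordAlgebra.contractLeft (Q := (0 : QuadraticForm S V)) (LinearMap.snd S _ _)
        (ExteriorAlgebra.ι S k) = 0 := by
      refine (CliffordAlgebra.contractLeft_ι _ _ _).trans ?_
      simp [k, rel]
      rfl
    rw [this]
    simp
    rfl
  simp only [ξ, LinearMap.coe_comp, Function.comp_apply]
  rw [contract_ιMulti_mul _ _ _ fun i => rfl, hk]
  simp only [AlgHom.toLinearMap_apply, map_smul, map_mul]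
  have hprod : ∀ (n : ℕ) (η : Fin n → Ω[R⁄Λ]),
      (ExteriorAlgebra.lift S ⟨ιS p Λ R a ∘ₗ LinearMap.fst S _ _, fun v => ιS_sq p Λ R a v.1⟩)
        (ExteriorAlgebra.ιMulti S n fun j => (((1 : S) ⊗ₜ[R] η j, 0) : V)) =
        (1 : S) ⊗ₜ[R] ExteriorAlgebra.ιMulti R n η := by
    intro n
    induction n with
    | zero => intro η; simp [ExteriorAlgebra.ιMulti_apply, Algebra.TensorProduct.one_def]
    | succ n ih =>
      intro η
      rw [ExteriorAlgebra.ιMulti_succ_apply, ExteriorAlgebra.ιMulti_succ_apply, map_mul,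
        ExteriorAlgebra.lift_ι_apply]
      show _ * _ = _
      rw [show (Matrix.vecTail fun j => (((1 : S) ⊗ₜ[R] η j, 0) : V)) = fun j => (((1 : S) ⊗ₜ[R] η j.succ, 0) : V) from rfl,
        ih fun j => η j.succ]
      simp [ιS, Algebra.TensorProduct.tmul_mul_tmul]
      rfl
  rw [hprod, ExteriorAlgebra.lift_ι_apply]
  simp only [k, rel, LinearMap.coe_comp, Function.comp_apply, LinearMap.fst_apply, ιS, LinearMap.baseChange_tmul,
    Algebra.TensorProduct.tmul_mul_tmul, mul_smul_comm, mul_one, TensorProduct.smul_tmul', smul_eq_mul]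
  rw [one_mul]
  congr 1
  rw [ExteriorAlgebra.ιMulti_apply, ExteriorAlgebra.ιMulti_apply, List.ofFn_succ', List.concat_eq_append,
    List.prod_append]
  simp

theorem pre_base (n : ℕ) (v : Fin n → (S ⊗[R] Ω[R⁄Λ]) × S) (h : ∀ j, (v j).2 = 0) : pre p Λ R a n v = 0 := by
  show ξ p Λ R a (ExteriorAlgebra.ιMulti S n v * ExteriorAlgebra.ι S (rel p Λ R a)) = 0
  simp only [ξ, LinearMap.coe_comp, Function.comp_apply]
  rw [contract_ιMulti_mul _ _ _ h]
  have : CliffordAlgebra.contractLeft (Q := (0 : QuadraticForm S ((S ⊗[R] Ω[R⁄Λ]) × S))) (LinearMap.snd S _ _)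
      (ExteriorAlgebra.ι S (rel p Λ R a)) = 0 := by
    refine (CliffordAlgebra.contractLeft_ι _ _ _).trans ?_
    simp [rel]
  rw [this]
  simp

theorem exists_trace (t : ℕ) :
    ∃ Tr : (⋀[S]^(t + 1) (Ω[S⁄Λ])) →+ (⋀[R]^(t + 1) (Ω[R⁄Λ])),
      (∀ (r : R) (ω : ⋀[S]^(t + 1) (Ω[S⁄Λ])), Tr (algebraMap R S r • ω) = r • Tr ω) ∧
      (∀ (η : Fin t → Ω[R⁄Λ]) (i : ℕ), i + 2 ≤ p →
        Tr (exteriorPower.ιMulti _ (t + 1) (Fin.snoc (fun j => KaehlerDifferential.map Λ Λ R S (η j))
          (x₀ ^ i • KaehlerDifferential.D Λ _ x₀))) = 0) ∧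
      (∀ (η : Fin t → Ω[R⁄Λ]),
        Tr (exteriorPower.ιMulti _ (t + 1) (Fin.snoc (fun j => KaehlerDifferential.map Λ Λ R S (η j))
          (x₀ ^ (p - 1) • KaehlerDifferential.D Λ _ x₀))) =
          exteriorPower.ιMulti R (t + 1) (Fin.snoc η (KaehlerDifferential.D Λ R a))) ∧
      (∀ (s : S) (η : Fin (t + 1) → Ω[R⁄Λ]),
        Tr (s • exteriorPower.ιMulti _ (t + 1) (fun j => KaehlerDifferential.map Λ Λ R S (η j))) = 0) := by
  classical
  obtain ⟨c, hc1, hc0⟩ := exists_coord p R a
  let Ψ : ↥(⋀[S]^(t + 1) (Ω[S⁄Λ])) →ₗ[S] S ⊗[R] ExteriorAlgebra R Ω[R⁄Λ] :=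
    exteriorPower.alternatingMapLinearEquiv
      (descend (cover p Λ R a) (cover_surjective p Λ R a) (pre p Λ R a (t + 1)) (pre_kill p Λ R a))
  let proj : ExteriorAlgebra R Ω[R⁄Λ] →ₗ[R] ↥(⋀[R]^(t + 1) Ω[R⁄Λ]) :=
    ExteriorAlgebra.liftAlternating (Function.update 0 (t + 1) (exteriorPower.ιMulti R (t + 1)))
  let out : S ⊗[R] ExteriorAlgebra R Ω[R⁄Λ] →ₗ[R] ↥(⋀[R]^(t + 1) Ω[R⁄Λ]) :=
    (TensorProduct.lid R _).toLinearMap ∘ₗ TensorProduct.map ((-1 : R) ^ t • c) proj
  have hΨ : ∀ v : Fin (t + 1) → (S ⊗[R] Ω[R⁄Λ]) × S,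
      Ψ (exteriorPower.ιMulti S (t + 1) fun j => cover p Λ R a (v j)) = pre p Λ R a (t + 1) v := fun v => by
    simp only [Ψ, exteriorPower.alternatingMapLinearEquiv_apply_ιMulti]
    exact descend_apply (cover p Λ R a) (cover_surjective p Λ R a) _ (pre_kill p Λ R a) v
  have hout : ∀ (s : S) (v : Fin (t + 1) → Ω[R⁄Λ]), out (s ⊗ₜ ExteriorAlgebra.ιMulti R (t + 1) v) =
      ((-1 : R) ^ t * c s) • exteriorPower.ιMulti R (t + 1) v := fun s v => by
    simp only [out, proj, LinearMap.coe_comp, Function.comp_apply, TensorProduct.map_tmul, LinearEquiv.coe_coe,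
      ExteriorAlgebra.liftAlternating_apply_ιMulti, Function.update_self, TensorProduct.lid_tmul, LinearMap.smul_apply,
      smul_eq_mul]
  have hval : ∀ (η : Fin t → Ω[R⁄Λ]) (i : ℕ),
      out (Ψ (exteriorPower.ιMulti _ (t + 1) (Fin.snoc (fun j => KaehlerDifferential.map Λ Λ R S (η j))
        (x₀ ^ i • KaehlerDifferential.D Λ _ x₀)))) =
        c (x₀ ^ i) • exteriorPower.ιMulti R (t + 1) (Fin.snoc η (KaehlerDifferential.D Λ R a)) := by
    intro η i
    have hv : (Fin.snoc (fun j => KaehlerDifferential.map Λ Λ R S (η j)) (x₀ ^ i • KaehlerDifferential.D Λ _ x₀) :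
        Fin (t + 1) → Ω[S⁄Λ]) = fun j => cover p Λ R a
          ((Fin.snoc (fun j => (((1 : S) ⊗ₜ[R] η j), (0 : S))) (0, x₀ ^ i) : Fin (t + 1) → _) j) := by
      funext j
      refine Fin.lastCases ?_ (fun j => ?_) j <;> simp [cover]
    rw [hv, hΨ, pre_forms, hout, ← map_one (algebraMap R S), ← map_neg, ← map_pow, ← Algebra.smul_def, map_smul,
      smul_eq_mul, ← mul_assoc, ← mul_pow, neg_mul_neg, one_mul, one_pow, one_mul]
  refine ⟨(out ∘ₗ Ψ.restrictScalars R).toAddMonoidHom, fun r ω => ?_, fun η i hi => ?_, fun η => ?_, fun s η => ?_⟩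
  · show out (Ψ (algebraMap R S r • ω)) = r • out (Ψ ω)
    rw [map_smul, algebraMap_smul, map_smul]
  · show out (Ψ _) = 0
    rw [hval, hc0 i hi, zero_smul]
  · show out (Ψ _) = _
    rw [hval, hc1, one_smul]
  · show out (Ψ (s • _)) = 0
    rw [map_smul, show (fun j => KaehlerDifferential.map Λ Λ R S (η j)) =
      fun j => cover p Λ R a (((1 : S) ⊗ₜ[R] η j), (0 : S)) from funext fun j => by simp [cover], hΨ,
      pre_base p Λ R a _ _ fun j => rfl, smul_zero, map_zero]

end Groth.Agent.PthRootTrace
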